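import Cfsg.Agent.SLGen.ShiftDet

/-!
# Two generators of `SL`
-/

set_option autoImplicit false

namespace CfsgLib.SLGen

theorem two_gen {K : Type*} [Field K] [Fintype K] (hK : 3 < Fintype.card K) (n : ℕ) (hn : 1 ≤ n)
    (k : Kˣ) (hk : ∀ u : Kˣ, u ∈ Subgroup.zpowers k)
    (h x w : Matrix.SpecialLinearGroup (Fin (n + 1)) K)
    (hh : (h : Matrix (Fin (n + 1)) (Fin (n + 1)) K) =
      Matrix.diagonal (fun i => if i.val = 0 then (k : K) else if i.val = 1 then ((k⁻¹ : Kˣ) : K) else 1))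
    (hx : (x : Matrix (Fin (n + 1)) (Fin (n + 1)) K) = Matrix.transvection (0 : Fin (n + 1)) (1 : Fin (n + 1)) 1)
    (hw : (w : Matrix (Fin (n + 1)) (Fin (n + 1)) K) =
      Matrix.of (fun i j => if j.val = i.val + 1 then 1 else if i.val = n ∧ j.val = 0 then (-1) ^ n else 0)) :
    Subgroup.closure ({h, x * w} : Set (Matrix.SpecialLinearGroup (Fin (n + 1)) K)) = ⊤ := by
  classical
  set H := Subgroup.closure ({h, x * w} : Set (Matrix.SpecialLinearGroup (Fin (n + 1)) K))
  have hh' : h ∈ H := Subgroup.subset_closure (by simp)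
  have hy : x * w ∈ H := Subgroup.subset_closure (by simp)
  let d : Fin (n + 1) → K := fun i =>
    if i.val = 0 then (k : K) else if i.val = 1 then ((k⁻¹ : Kˣ) : K) else 1
  have hd : ∀ i, d i ≠ 0 := fun i => by simp only [d]; split_ifs <;> simp
  have hcard : Fintype.card Kˣ = Fintype.card K - 1 := Fintype.card_units K
  have hord : orderOf k = Fintype.card Kˣ := by
    rw [orderOf_eq_card_of_forall_mem_zpowers hk, Nat.card_eq_fintype_card]
  have hk2 : (k : K) ^ 2 ≠ 1 := by
    intro h2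
    have := orderOf_le_of_pow_eq_one two_pos (Units.ext (by simpa using h2) : k ^ 2 = 1)
    omega
  have hk1 : (k : K) ≠ 1 := fun h1 => hk2 (by rw [h1, one_pow])
  have hd0 : d 0 = (k : K) := by simp [d]
  have hd1 : d (0 + 1) = ((k⁻¹ : Kˣ) : K) := by
    have : (1 : Fin (n + 1)).val = 1 := by rw [Fin.val_one', Nat.mod_eq_of_lt]; omega
    simp only [d, zero_add, this]
    norm_num
  -- the conjugate of `h` by `w` is again diagonal
  have hwh : (↑(w * h * w⁻¹) : Matrix (Fin (n + 1)) (Fin (n + 1)) K) = Matrix.diagonal fun i => d (i + 1) := by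
    have e : (w : Matrix (Fin (n + 1)) (Fin (n + 1)) K) * h =
        Matrix.diagonal (fun i => d (i + 1)) * (w : Matrix (Fin (n + 1)) (Fin (n + 1)) K) := by
      ext i j
      rw [hh, Matrix.mul_diagonal, Matrix.diagonal_mul, CfsgLib.SLGen.shift_apply hw]
      change _ * d j = _
      by_cases hij : j = i + 1
      · rw [if_pos hij, hij, mul_comm]
      · rw [if_neg hij, zero_mul, mul_zero]
    rw [Matrix.SpecialLinearGroup.coe_mul, Matrix.SpecialLinearGroup.coe_mul, e, Matrix.mul_assoc,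
      ← Matrix.SpecialLinearGroup.coe_mul, mul_inv_cancel, Matrix.SpecialLinearGroup.coe_one,
      Matrix.mul_one]
  set hp := w * h * w⁻¹ with hhp
  clear_value hp
  set S := CfsgLib.SLGen.adjParams hn H
  set r : K := d (0 + 1) / d (0 + 1 + 1) with hr
  set T : K → Matrix.SpecialLinearGroup (Fin (n + 1)) K := fun t => CfsgLib.SLGen.adj hn 0 t with hT
  have hneg : ∀ t, T (-t) = (T t)⁻¹ := fun t => eq_inv_of_mul_eq_one_left (by
    simp only [hT]; rw [← CfsgLib.SLGen.adj_add, neg_add_cancel, CfsgLib.SLGen.adj_zero])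
  have hadd : ∀ s t, T (s + t) = T s * T t := fun s t => CfsgLib.SLGen.adj_add hn 0 s t
  have hg : x * w * h * (x * w)⁻¹ = T (1 - r) * hp := by
    have e1 := CfsgLib.SLGen.diag_mul_adj hn hp (fun i => d (i + 1)) (fun i => hd _) hwh 0 (-1)
    have hx1 : T 1 = x := CfsgLib.SLGen.adj_eq_self hx
    rw [show x * w * h * (x * w)⁻¹ = x * (hp * x⁻¹) by rw [hhp]; group, ← hx1, ← hneg]
    simp only [hT] at e1 ⊢
    rw [e1, ← mul_assoc, ← CfsgLib.SLGen.adj_add]
    congr 2
    rw [hr]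
    ring
  have hhD : ∀ t, h * T t = T (d 0 / d (0 + 1) * t) * h :=
    fun t => CfsgLib.SLGen.diag_mul_adj hn h d hd hh 0 t
  have hcomm : hp * h = h * hp := by
    refine Subtype.ext ?_
    rw [Matrix.SpecialLinearGroup.coe_mul, Matrix.SpecialLinearGroup.coe_mul, hwh, hh,
      Matrix.diagonal_mul_diagonal, Matrix.diagonal_mul_diagonal]
    simp only [mul_comm]
  set κ : K := d 0 / d (0 + 1) with hκ
  have hκ2 : κ = (k : K) ^ 2 := by
    rw [hκ, hd0, hd1, Units.val_inv_eq_inv_val, div_inv_eq_mul, pow_two]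
  have hS0 : (1 - r) * (1 - κ) ∈ S := by
    change T _ ∈ H
    have hmem : x * w * h * (x * w)⁻¹ ∈ H := H.mul_mem (H.mul_mem hy hh') (H.inv_mem hy)
    have e : T ((1 - r) * (1 - κ)) =
        (T (1 - r) * hp) * h * (T (1 - r) * hp)⁻¹ * h⁻¹ := by
      have := hhD (-(1 - r))
      rw [show (1 - r) * (1 - κ) = (1 - r) + κ * (-(1 - r)) by ring, hadd]
      calc T (1 - r) * T (κ * -(1 - r))
          = T (1 - r) * (T (κ * -(1 - r)) * h) * h⁻¹ := by group
        _ = T (1 - r) * (h * T (-(1 - r))) * h⁻¹ := by rw [this]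
        _ = T (1 - r) * (hp * h * hp⁻¹ * (T (1 - r))⁻¹) * h⁻¹ := by
            rw [hneg, hcomm]; group
        _ = _ := by group
    rw [e, ← hg]
    exact H.mul_mem (H.mul_mem (H.mul_mem hmem hh') (H.inv_mem hmem)) (H.inv_mem hh')
  have hne : (1 - r) * (1 - κ) ≠ 0 := by
    refine mul_ne_zero (sub_ne_zero.2 fun h1 => ?_) (sub_ne_zero.2 (Ne.symm (hκ2 ▸ hk2)))
    rw [hr, eq_div_iff (hd _), one_mul, hd1, Units.val_inv_eq_inv_val] at h1
    have hv1 : (0 + 1 : Fin (n + 1)).val = 1 := by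
      rw [zero_add, Fin.val_one', Nat.mod_eq_of_lt]; omega
    by_cases hn1 : n = 1
    · subst hn1
      have : (0 + 1 + 1 : Fin 2) = 0 := by decide
      rw [this, hd0] at h1
      refine hk2 ?_
      rw [pow_two]
      nth_rewrite 1 [h1]
      exact inv_mul_cancel₀ k.ne_zero
    · have hv2 : (0 + 1 + 1 : Fin (n + 1)).val = 2 := by
        rw [Fin.val_add_one_of_lt' (by omega), hv1]
      rw [show d (0 + 1 + 1) = 1 by simp only [d, hv2]; norm_num] at h1
      exact hk1 (inv_eq_one.1 h1.symm)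
  have hstep : ∀ t ∈ S, (k : K) ^ 2 * t ∈ S := by
    intro t ht
    change T _ ∈ H
    rw [← hκ2, show T (κ * t) = h * T t * h⁻¹ from eq_mul_inv_of_mul_eq (hhD t).symm]
    exact H.mul_mem (H.mul_mem hh' ht) (H.inv_mem hh')
  have hsq : ∀ a : K, ∀ t ∈ S, a ^ 2 * t ∈ S := by
    intro a t ht
    by_cases ha : a = 0
    · simp [ha, S.zero_mem]
    · obtain ⟨e, he⟩ : ∃ e : ℕ, k ^ e = Units.mk0 a ha :=
        (mem_powers_iff_mem_zpowers.2 (hk _))
      rw [show a = ((k ^ e : Kˣ) : K) by rw [he]; rfl, Units.val_pow_eq_pow_val, ← pow_mul,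
        mul_comm e, pow_mul]
      clear he
      induction e with
      | zero => simpa using ht
      | succ e ih => rw [pow_succ', mul_assoc]; exact hstep _ ih
  have hall : ∀ t, t ∈ S := by
    intro t
    obtain ⟨c, hc0, hc⟩ : ∃ c, c ≠ 0 ∧ c ∈ S := ⟨_, hne, hS0⟩
    by_cases h2 : (2 : K) = 0
    · have : CharP K 2 := CharTwo.of_one_ne_zero_of_two_eq_zero one_ne_zero h2
      obtain ⟨a, ha⟩ : ∃ a : K, a ^ 2 = t / c :=
        (FiniteField.isSquare_of_char_two (ringChar.eq K 2) (t / c)).elim fun a ha => ⟨a, by rw [ha, pow_two]⟩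
      have := hsq a c hc
      rwa [ha, div_mul_cancel₀ _ hc0] at this
    · set a : K := t / c / 2
      have hmem : (a + 1) ^ 2 * c - a ^ 2 * c - c ∈ S :=
        S.sub_mem (S.sub_mem (hsq _ _ hc) (hsq _ _ hc)) hc
      convert hmem using 1
      simp only [a]
      field_simp
      ring
  have hxH : x ∈ H := CfsgLib.SLGen.adj_eq_self (hn := hn) hx ▸ hall 1
  exact CfsgLib.SLGen.eq_top_of_shift hn hw
    (by simpa using H.mul_mem (H.inv_mem hxH) hy) hall

theorem two_gen_small {K : Type*} [Field K] [Fintype K] (hK : Fintype.card K ≤ 3) (n : ℕ) (hn : 1 ≤ n)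
    (x w : Matrix.SpecialLinearGroup (Fin (n + 1)) K)
    (hx : (x : Matrix (Fin (n + 1)) (Fin (n + 1)) K) = Matrix.transvection (0 : Fin (n + 1)) (1 : Fin (n + 1)) 1)
    (hw : (w : Matrix (Fin (n + 1)) (Fin (n + 1)) K) =
      Matrix.of (fun i j => if j.val = i.val + 1 then 1 else if i.val = n ∧ j.val = 0 then (-1) ^ n else 0)) :
    Subgroup.closure ({x, w} : Set (Matrix.SpecialLinearGroup (Fin (n + 1)) K)) = ⊤ := by
  classical
  refine CfsgLib.SLGen.eq_top_of_shift hn hw (Subgroup.subset_closure (by simp)) fun t => ?_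
  set H := Subgroup.closure ({x, w} : Set (Matrix.SpecialLinearGroup (Fin (n + 1)) K))
  have h1 : (1 : K) ∈ CfsgLib.SLGen.adjParams hn H := by
    change _ ∈ H
    rw [CfsgLib.SLGen.adj_eq_self hx]
    exact Subgroup.subset_closure (by simp)
  have hbot : CfsgLib.SLGen.adjParams hn H = ⊤ := by
    refine AddSubgroup.eq_top_of_card_eq _ (le_antisymm (Nat.card_le_card_of_injective _ Subtype.val_injective) ?_)
    have hdvd := AddSubgroup.card_addSubgroup_dvd_card (CfsgLib.SLGen.adjParams hn H)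
    rw [Nat.card_eq_fintype_card (α := K)] at hdvd ⊢
    have h2 : 1 < Nat.card (CfsgLib.SLGen.adjParams hn H) :=
      Finite.one_lt_card_iff_nontrivial.2 ⟨⟨0, zero_mem _⟩, ⟨1, h1⟩, by simp⟩
    have h3 := Fintype.one_lt_card (α := K)
    by_contra hlt
    rcases (show Fintype.card K = 2 ∨ Fintype.card K = 3 by omega) with hc | hc <;> rw [hc] at hdvd hlt
    · have := (Nat.dvd_prime Nat.prime_two).1 hdvd; omega
    · have := (Nat.dvd_prime Nat.prime_three).1 hdvd; omega
  exact (hbot ▸ AddSubgroup.mem_top t : t ∈ CfsgLib.SLGen.adjParams hn H)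

/-- `SL` over a finite field is generated by two elements. -/
theorem exists_pair (K : Type*) [Field K] [Fintype K] (n : ℕ) (hn : 1 ≤ n) :
    ∃ a b : Matrix.SpecialLinearGroup (Fin (n + 1)) K, Subgroup.closure ({a, b} : Set _) = ⊤ := by
  classical
  let w : Matrix.SpecialLinearGroup (Fin (n + 1)) K :=
    ⟨Matrix.of (fun i j => if j.val = i.val + 1 then 1 else if i.val = n ∧ j.val = 0 then (-1) ^ n else 0), det_shift n⟩
  let x : Matrix.SpecialLinearGroup (Fin (n + 1)) K :=
    Matrix.SpecialLinearGroup.transvection (self_ne_add_one hn (0 : Fin (n + 1))) 1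
  have hx : (x : Matrix (Fin (n + 1)) (Fin (n + 1)) K) = Matrix.transvection (0 : Fin (n + 1)) (1 : Fin (n + 1)) 1 := by
    simp [x, Matrix.SpecialLinearGroup.transvection_coe, Matrix.transvection]
  by_cases hK : Fintype.card K ≤ 3
  · exact ⟨x, w, two_gen_small hK n hn x w hx rfl⟩
  · obtain ⟨k, hk⟩ := IsCyclic.exists_generator (α := Kˣ)
    exact ⟨⟨Matrix.diagonal (fun i => if i.val = 0 then (k : K) else if i.val = 1 then ((k⁻¹ : Kˣ) : K) else 1), by
      rw [Matrix.det_diagonal, Fin.prod_univ_succ]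
      obtain ⟨m, rfl⟩ : ∃ m, n = m + 1 := ⟨n - 1, by omega⟩
      simp [Fin.prod_univ_succ]⟩, x * w, two_gen (by omega) n hn k hk _ x w rfl hx rfl⟩

end CfsgLib.SLGen
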