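/-
Generating `SL_{n+1}` from the cyclically adjacent transvection subgroups and a cyclic monomial matrix.
-/
import Cfsg.Agent.Linear.Perfect

set_option autoImplicit false

namespace CfsgLib.SLGen

open Matrix CfsgLib.Linear

variable {K : Type*} [Field K] {n : ℕ}

local notation "SLn" => Matrix.SpecialLinearGroup (Fin (n + 1)) K

lemma self_ne_add_one (hn : 1 ≤ n) (i : Fin (n + 1)) : i ≠ i + 1 := by
  intro h
  have h1 : (1 : Fin (n + 1)) = 0 := by simpa using h
  have := congr_arg Fin.val h1
  rw [Fin.val_one', Fin.val_zero, Nat.one_mod_eq_zero_iff] at this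
  omega

/-- The cyclically adjacent transvection `x_{i,i+1}(t)`. -/
def adj (hn : 1 ≤ n) (i : Fin (n + 1)) (t : K) : SLn :=
  Matrix.SpecialLinearGroup.transvection (self_ne_add_one hn i) t

theorem transvection_eq_adj (hn : 1 ≤ n) {a b : Fin (n + 1)} (hab : a ≠ b) (i : Fin (n + 1))
    (ha : a = i) (hb : b = i + 1) (c : K) :
    Matrix.SpecialLinearGroup.transvection hab c = adj hn i c := by
  subst ha hb; rfl

theorem eq_top_of_adj (hn : 1 ≤ n) {H : Subgroup SLn} (h : ∀ i t, adj hn i t ∈ H) : H = ⊤ := by
  refine sl_eq_top_of_transvections fun i j hij c => ?_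
  obtain ⟨k, rfl⟩ : ∃ k, j = i + k := ⟨j - i, by simp⟩
  induction k using Fin.induction generalizing c with
  | zero => exact absurd (add_zero i).symm hij
  | succ k ih =>
    have hk : (k.succ : Fin (n + 1)) = k.castSucc + 1 := (Fin.coeSucc_eq_succ).symm
    by_cases h0 : k.castSucc = 0
    · have e : i + k.succ = i + 1 := by rw [hk, h0, zero_add]
      rw [transvection_eq_adj hn hij i rfl e]
      exact h i c
    · have h1 : i ≠ i + k.castSucc := fun e => h0 (by simpa using e.symm)
      have h2 : i + k.castSucc ≠ i + k.succ := by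
        rw [hk, ← add_assoc]
        exact self_ne_add_one hn _
      have hcomm := commutator_transvection hij h1 h2 c (1 : K)
      rw [mul_one] at hcomm
      rw [← hcomm, commutatorElement_def]
      have m2 : Matrix.SpecialLinearGroup.transvection h2 (1 : K) ∈ H := by
        rw [transvection_eq_adj hn h2 (i + k.castSucc) rfl (by rw [hk, add_assoc])]
        exact h _ 1
      exact H.mul_mem (H.mul_mem (H.mul_mem (ih c h1) m2) (H.inv_mem (ih c h1))) (H.inv_mem m2)

theorem diag_mul_adj (hn : 1 ≤ n) (D : SLn) (d : Fin (n + 1) → K) (hd : ∀ i, d i ≠ 0)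
    (hD : (D : Matrix (Fin (n + 1)) (Fin (n + 1)) K) = diagonal d) (i : Fin (n + 1)) (t : K) :
    D * adj hn i t = adj hn i (d i / d (i + 1) * t) * D := by
  refine Subtype.ext ?_
  rw [Matrix.SpecialLinearGroup.coe_mul, Matrix.SpecialLinearGroup.coe_mul, hD, adj, adj,
    Matrix.SpecialLinearGroup.transvection_coe, Matrix.SpecialLinearGroup.transvection_coe,
    mul_add, add_mul, mul_one, one_mul]
  congr 1
  ext a b
  rw [diagonal_mul, mul_diagonal, single_apply, single_apply]
  split_ifs with h
  · obtain ⟨rfl, rfl⟩ := h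
    field_simp [hd]
  · simp

variable {w : Matrix.SpecialLinearGroup (Fin (n + 1)) K}

/-- The entries of the cyclic monomial matrix. -/
def shiftSign (n : ℕ) (K : Type*) [Field K] (i : Fin (n + 1)) : K := if i.val = n then (-1) ^ n else 1

lemma shiftSign_ne_zero (i : Fin (n + 1)) : shiftSign n K i ≠ 0 := by
  unfold shiftSign
  split_ifs <;> simp

lemma shift_apply (hw : (w : Matrix (Fin (n + 1)) (Fin (n + 1)) K) =
      Matrix.of (fun i j => if j.val = i.val + 1 then 1 else if i.val = n ∧ j.val = 0 then (-1) ^ n else 0))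
    (i j : Fin (n + 1)) :
    (w : Matrix (Fin (n + 1)) (Fin (n + 1)) K) i j = if j = i + 1 then shiftSign n K i else 0 := by
  rw [hw, Matrix.of_apply, shiftSign]
  have hi := i.isLt
  have hj := j.isLt
  by_cases hin : i.val = n
  · have e : i + 1 = 0 := by
      rw [show i = Fin.last n from Fin.ext hin, Fin.last_add_one]
    have : j.val ≠ i.val + 1 := by omega
    rw [if_neg this, e]
    simp only [hin, true_and, Fin.ext_iff, Fin.val_zero, if_true]
  · have e : (i + 1).val = i.val + 1 := Fin.val_add_one_of_lt' (by omega)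
    simp only [hin, false_and, if_false, Fin.ext_iff, e]

theorem shift_mul_adj (hn : 1 ≤ n)
    (hw : (w : Matrix (Fin (n + 1)) (Fin (n + 1)) K) =
      Matrix.of (fun i j => if j.val = i.val + 1 then 1 else if i.val = n ∧ j.val = 0 then (-1) ^ n else 0))
    (i : Fin (n + 1)) (t : K) :
    w * adj hn (i + 1) t = adj hn i (shiftSign n K i / shiftSign n K (i + 1) * t) * w := by
  refine Subtype.ext ?_
  rw [Matrix.SpecialLinearGroup.coe_mul, Matrix.SpecialLinearGroup.coe_mul, adj, adj,
    Matrix.SpecialLinearGroup.transvection_coe, Matrix.SpecialLinearGroup.transvection_coe,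
    mul_add, add_mul, mul_one, one_mul]
  congr 1
  ext a b
  rw [Matrix.mul_apply, Matrix.mul_apply]
  simp only [shift_apply hw, single_apply, ite_mul, zero_mul, mul_ite, mul_zero]
  rw [Finset.sum_eq_single (i + 1), Finset.sum_eq_single (i + 1)]
  · have h0 := shiftSign_ne_zero (K := K) (i + 1)
    simp only [true_and, and_true]
    by_cases h1 : a = i <;> by_cases h2 : b = i + 1 + 1
    · subst h1 h2
      simp only [if_true]
      field_simp
    · have h2' : i + 1 + 1 ≠ b := Ne.symm h2
      simp [h1, h2, h2']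
    · have : i + 1 ≠ a + 1 := fun e => h1 (add_right_cancel e).symm
      simp [Ne.symm h1, this]
    · have h2' : i + 1 + 1 ≠ b := Ne.symm h2
      simp [h2, h2']
  all_goals first
    | (intro c _ hc; simp [Ne.symm hc])
    | simp

/-- A subgroup containing the cyclic monomial matrix and one adjacent root subgroup is everything. -/
theorem eq_top_of_shift (hn : 1 ≤ n)
    (hw : (w : Matrix (Fin (n + 1)) (Fin (n + 1)) K) =
      Matrix.of (fun i j => if j.val = i.val + 1 then 1 else if i.val = n ∧ j.val = 0 then (-1) ^ n else 0))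
    {H : Subgroup SLn} (hwH : w ∈ H) (h0 : ∀ t, adj hn 0 t ∈ H) : H = ⊤ := by
  refine eq_top_of_adj hn fun i => ?_
  obtain ⟨k, rfl⟩ : ∃ k, i = 0 - k := ⟨0 - i, by simp⟩
  induction k using Fin.induction with
  | zero => simpa using h0
  | succ k ih =>
    intro t
    have e : (0 : Fin (n + 1)) - k.castSucc = 0 - k.succ + 1 := by
      rw [← Fin.coeSucc_eq_succ]
      abel
    set i := (0 : Fin (n + 1)) - k.succ
    have hr : shiftSign n K i / shiftSign n K (i + 1) ≠ 0 :=
      div_ne_zero (shiftSign_ne_zero _) (shiftSign_ne_zero _)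
    have := shift_mul_adj hn hw i (t / (shiftSign n K i / shiftSign n K (i + 1)))
    rw [mul_div_cancel₀ _ hr] at this
    rw [show adj hn i t = w * adj hn (i + 1) (t / (shiftSign n K i / shiftSign n K (i + 1))) * w⁻¹ from
      eq_mul_inv_of_mul_eq this.symm]
    exact H.mul_mem (H.mul_mem hwH (e ▸ ih _)) (H.inv_mem hwH)

lemma adj_eq_self {hn : 1 ≤ n} {x : SLn}
    (hx : (x : Matrix (Fin (n + 1)) (Fin (n + 1)) K) = Matrix.transvection (0 : Fin (n + 1)) (1 : Fin (n + 1)) 1) :
    adj hn 0 1 = x := by
  refine Subtype.ext ?_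
  rw [hx, adj, Matrix.SpecialLinearGroup.transvection_coe, Matrix.transvection, zero_add]

lemma adj_add (hn : 1 ≤ n) (i : Fin (n + 1)) (s t : K) :
    adj hn i (s + t) = adj hn i s * adj hn i t := by
  refine Subtype.ext ?_
  rw [Matrix.SpecialLinearGroup.coe_mul]
  simp only [adj, Matrix.SpecialLinearGroup.transvection_coe]
  exact (Matrix.transvection_mul_transvection_same _ _ (self_ne_add_one hn i) s t).symm

lemma adj_zero (hn : 1 ≤ n) (i : Fin (n + 1)) : adj hn i (0 : K) = 1 := by
  refine Subtype.ext ?_
  simp [adj, Matrix.SpecialLinearGroup.transvection_coe]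

/-- The parameters whose root element lies in `H`. -/
def adjParams (hn : 1 ≤ n) (H : Subgroup SLn) : AddSubgroup K where
  carrier := {t | adj hn 0 t ∈ H}
  zero_mem' := by simp [adj_zero]
  add_mem' := fun {a b} ha hb => by
    simp only [Set.mem_ofPred_eq] at *
    rw [adj_add]
    exact H.mul_mem ha hb
  neg_mem' := fun {a} ha => by
    simp only [Set.mem_ofPred_eq] at *
    have : adj hn 0 (-a) * adj hn 0 a = 1 := by rw [← adj_add, neg_add_cancel, adj_zero]
    rw [eq_inv_of_mul_eq_one_left this]
    exact H.inv_mem ha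

end CfsgLib.SLGen
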