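import Cfsg.Agent.SLGen.Basic

/-!
# The determinant of the cyclic monomial matrix
-/

set_option autoImplicit false

namespace CfsgLib.SLGen

theorem det_shift {K : Type*} [Field K] (n : ℕ) :
    (Matrix.of (fun i j : Fin (n + 1) =>
      if j.val = i.val + 1 then (1 : K) else if i.val = n ∧ j.val = 0 then (-1) ^ n else 0)).det = 1 := by
  have h : Matrix.of (fun i j : Fin (n + 1) =>
      if j.val = i.val + 1 then (1 : K) else if i.val = n ∧ j.val = 0 then (-1) ^ n else 0) =
      Matrix.diagonal (shiftSign n K) * (finRotate (n + 1)).permMatrix K := by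
    ext i j
    rw [Matrix.diagonal_mul, Matrix.of_apply]
    simp only [Equiv.Perm.permMatrix, PEquiv.toMatrix_apply, Equiv.toPEquiv_apply,
      Option.mem_def, Option.some.injEq, finRotate_apply, mul_ite, mul_one, mul_zero]
    rcases eq_or_ne i (Fin.last n) with rfl | hi
    · simp only [Fin.last_add_one, Fin.val_last, true_and, shiftSign, if_true]
      rw [if_neg (by omega)]
      by_cases h0 : j.val = 0
      · rw [if_pos h0, if_pos (Fin.ext h0.symm)]
      · rw [if_neg h0, if_neg fun e => h0 (congrArg Fin.val e).symm]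
    · have hi' : i.val ≠ n := fun h => hi (Fin.ext h)
      have hv : (i + 1).val = i.val + 1 := Fin.val_add_one_of_lt' (by omega)
      simp only [shiftSign, if_neg hi', Fin.ext_iff, hv]
      by_cases h1 : j.val = i.val + 1
      · rw [if_pos h1, if_pos h1.symm]
      · rw [if_neg h1, if_neg (Ne.symm h1), if_neg (fun e => hi' e.1)]
  rw [h, Matrix.det_mul, Matrix.det_permutation, Matrix.det_diagonal, Fin.prod_univ_castSucc, sign_finRotate]
  have h0 : ∀ i : Fin n, shiftSign n K i.castSucc = 1 := fun i => by simp [shiftSign, i.isLt.ne]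
  rw [Finset.prod_congr rfl (fun i _ => h0 i), Finset.prod_const_one, one_mul]
  simp [shiftSign, ← mul_pow]

end CfsgLib.SLGen
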